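import Groth.Agent.L20.Dense.Cent
import Groth.Agent.L20.Dense.Dominant
import Groth.Agent.L08.Borel.Cover

/-!
# Conjugates of the Lie algebra of a Borel subgroup form a closed set
-/

set_option autoImplicit false
set_option backward.isDefEq.respectTransparency false
set_option backward.isDefEq.respectTransparency.types false
set_option linter.style.haveILetI false
set_option linter.unusedSectionVars false

universe u

open CategoryTheory CategoryTheory.Limits MonoidalCategory CartesianMonoidalCategory MonObj AlgebraicGeometry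
open TensorProduct WithConv
open Groth.L25.Bridge (P)
open Groth.L08.TorusQuot (sp sp_left toPt toPt_pre toPt_post spA SP pre post Pt ofPt toPt_ofPt ofPt_toPt)
open Groth.L08.Borel (ptOf)

noncomputable section

namespace Groth.L20.LieBorel

open Groth.L08 Groth.L08.AugGraded Groth.L24.TorusField Groth.L20.Unirat Groth.L20.Dense

variable {k : Type u} [Field k] [IsAlgClosed k]

local notation "U1" => 𝟙_ (Over (Spec (CommRingCat.of k)))

/-- a saturated closed set has a closed image along an open surjection and a closed map -/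
theorem isClosed_image_of_saturated {W Z Y : Over (Spec (CommRingCat.of k))} [LocallyOfFiniteType W.hom]
    [LocallyOfFiniteType Z.hom] (f : W ⟶ Z) (p : Z ⟶ Y) (hf : IsOpenMap f.left) [Surjective f.left]
    (hp : IsClosedMap p.left) {E : Set W.left} (hE : IsClosed E)
    (hsat : ∀ e x : U1 ⟶ W, ptOf e ∈ E → e ≫ f = x ≫ f → ptOf x ∈ E) : IsClosed ((f ≫ p).left '' E) := by
  have hU : IsOpen (f.left '' Eᶜ) := hf _ hE.isOpen_compl
  have himg : f.left '' E = (f.left '' Eᶜ)ᶜ := by
    refine subset_antisymm ?_ fun z hz => ?_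
    · rintro z ⟨w, hw, rfl⟩ hz
      obtain ⟨e, he, heU⟩ := Groth.L08.Borel.exists_pt_mem (X := W) (O := E ∩ f.left ⁻¹' (f.left '' Eᶜ))
        (hE.isLocallyClosed.inter (hU.preimage f.left.continuous).isLocallyClosed) ⟨w, hw, hz⟩
      obtain ⟨w', hw', hwe⟩ := heU
      obtain ⟨x, hx, hxe⟩ := Groth.L08.Borel.exists_pt_mem (X := W) (O := Eᶜ ∩ f.left ⁻¹' {ptOf (e ≫ f)})
        (hE.isOpen_compl.isLocallyClosed.inter
          ((Groth.L08.Borel.isClosed_pt (e ≫ f)).preimage f.left.continuous).isLocallyClosed) ⟨w', hw', hwe⟩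
      exact hx (hsat e x he (Groth.L08.Borel.pt_ext (show ptOf (e ≫ f) = ptOf (x ≫ f) from hxe.symm)))
    · obtain ⟨w, rfl⟩ := f.left.surjective z
      exact ⟨w, by_contra fun hw => hz ⟨w, hw, rfl⟩, rfl⟩
  rw [Over.comp_left, show ⇑(f.left ≫ p.left) = ⇑p.left ∘ ⇑f.left from rfl, Set.image_comp, himg]
  exact hp _ hU.isClosed_compl

variable {R R' : Type u} [CommRing R] [Algebra k R] [CommRing R'] [Algebra k R']

/-- a rational point of an affine scheme -/
def rpt (ψ : R →ₐ[k] k) : U1 ⟶ SP k R := inv (e0 k) ≫ spA ψ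

theorem rpt_comp (ψ : R →ₐ[k] k) (φ : R' →ₐ[k] R) : rpt ψ ≫ spA φ = rpt (ψ.comp φ) := by
  rw [rpt, rpt, Category.assoc]
  congr 1
  exact Over.OverMorphism.ext (Spec.map_comp (CommRingCat.ofHom φ.toRingHom) (CommRingCat.ofHom ψ.toRingHom)).symm

theorem mem_ptOf_rpt (ψ : R →ₐ[k] k) (r : R) :
    r ∈ (ptOf (rpt ψ) : PrimeSpectrum R).asIdeal ↔ ψ r = 0 := by
  have e : (rpt ψ).left = Spec.map (CommRingCat.ofHom ψ.toRingHom) := by
    have h := congrArg (fun m => m.left) (IsIso.hom_inv_id_assoc (e0 k) (spA ψ))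
    simp only [Over.comp_left] at h
    exact ((Category.id_comp _).symm.trans h :)
  show r ∈ ((rpt ψ).left (IsLocalRing.closedPoint k) : PrimeSpectrum R).asIdeal ↔ _
  rw [e]
  show ψ r ∈ IsLocalRing.maximalIdeal k ↔ _
  rw [IsLocalRing.mem_maximalIdeal, mem_nonunits_iff]
  exact ⟨fun h => not_not.1 fun hne => h (isUnit_iff_ne_zero.2 hne), fun h hu => hu.ne_zero h⟩

theorem exists_rpt (x : U1 ⟶ SP k R) : ∃ ψ : R →ₐ[k] k, rpt ψ = x := by
  obtain ⟨f, hf⟩ : ∃ f : CommRingCat.of R ⟶ CommRingCat.of k, Spec.map f = x.left := ⟨_, Spec.map_preimage _⟩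
  have hw : x.left ≫ Spec.map (CommRingCat.ofHom (algebraMap k R)) = 𝟙 _ := Over.w x
  rw [← hf, ← Spec.map_comp] at hw
  have hw' : Spec.map (CommRingCat.ofHom (algebraMap k R) ≫ f) = Spec.map (𝟙 (CommRingCat.of k)) :=
    hw.trans (Spec.map_id _).symm
  let ψ : R →ₐ[k] k := { f.hom with commutes' := fun r => congr($(Spec.map_injective hw') r) }
  refine ⟨ψ, ?_⟩
  rw [rpt, ← cancel_epi (e0 k), IsIso.hom_inv_id_assoc]
  refine Over.OverMorphism.ext ?_
  show Spec.map (CommRingCat.ofHom ψ.toRingHom) = _ ≫ x.left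
  rw [← hf]
  exact (Category.id_comp _).symm

variable {A B : Type u} [CommRing A] [HopfAlgebra k A] [Algebra.FiniteType k A] [CommRing B] [HopfAlgebra k B]
  [Smooth (P k A).hom] [ConnectedSpace (P k A).left] {σ : Type u} [Fintype σ] [DecidableEq σ] {a : Matrix σ σ A}

/-- **conjugates of the Lie algebra of a Borel subgroup fill up everything they fill generically** -/
theorem exists_conj_of_open (h : Gens k a) (φ : A →ₐc[k] B) (hφ : Function.Surjective φ)
    (hB : Red.IsBorelOver k (sp φ)) {n : ℕ} (X : Fin n → Matrix σ σ k) {P₀ : MvPolynomial (Fin n) k} (hP₀ : P₀ ≠ 0)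
    (hopen : ∀ c, MvPolynomial.eval c P₀ ≠ 0 → ∃ χ : WithConv (A →ₐ[k] k),
      ptMat a χ⁻¹.ofConv * (∑ j, c j • X j) * ptMat a χ.ofConv ∈ lieSub (k := k) (a.map φ))
    (c : Fin n → k) :
    ∃ χ : WithConv (A →ₐ[k] k),
      ptMat a χ⁻¹.ofConv * (∑ j, c j • X j) * ptMat a χ.ofConv ∈ lieSub (k := k) (a.map φ) := by
  classical
  haveI := hB.1; haveI := hB.2.1
  haveI : IsAffineHom (P k A).hom := inferInstance
  haveI : LocallyOfFiniteType (P k A).hom := inferInstance
  obtain ⟨Q, act, o, hQ⟩ := Groth.L08.Borel.exists_isQuotient (sp φ)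
  haveI := hQ.1; haveI := hQ.2.1; haveI := hQ.2.2.1
  haveI := Groth.L08.Borel.isProper_quotient_of_borel hB hQ
  haveI : LocallyOfFinitePresentation (act.orbitMap o).left :=
    Groth.L23.lfp_of_comp_lft (act.orbitMap o).left Q.hom (by rw [Over.w]; infer_instance)
  let MP := MvPolynomial (Fin n) k
  let Y : Over (Spec (CommRingCat.of k)) := SP k MP
  haveI : LocallyOfFiniteType Y.hom := by
    show LocallyOfFiniteType (Spec.map (CommRingCat.ofHom (algebraMap k MP)))
    rw [HasRingHomProperty.Spec_iff (P := @LocallyOfFiniteType), CommRingCat.hom_ofHom, RingHom.finiteType_algebraMap]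
    infer_instance
  let incl : A →ₐ[k] A ⊗[k] MP := Algebra.TensorProduct.includeLeft
  let incr : MP →ₐ[k] A ⊗[k] MP := Algebra.TensorProduct.includeRight
  haveI : LocallyOfFiniteType (SP k (A ⊗[k] MP)).hom := by
    show LocallyOfFiniteType (Spec.map (CommRingCat.ofHom (algebraMap k (A ⊗[k] MP))))
    rw [HasRingHomProperty.Spec_iff (P := @LocallyOfFiniteType), CommRingCat.hom_ofHom, RingHom.finiteType_algebraMap]
    infer_instance
  let pl : SP k (A ⊗[k] MP) ⟶ P k A := toPt (toConv incl)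
  let pr : SP k (A ⊗[k] MP) ⟶ Y := spA incr
  let pm : SP k (A ⊗[k] MP) ⟶ Y ⊗ P k A := lift pr pl
  haveI : IsIso pm := by
    have he : pm.left = (pullbackSpecIso k A MP).inv ≫ (pullbackSymmetry _ _).hom := by
      refine pullback.hom_ext ?_ ?_
      · refine (congrArg (fun m => m.left) (lift_fst pr pl)).trans ?_
        exact ((Category.assoc _ _ _).trans ((congrArg ((pullbackSpecIso k A MP).inv ≫ ·)
          (pullbackSymmetry_hom_comp_fst _ _)).trans (pullbackSpecIso_inv_snd k A MP))).symm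
      · refine (congrArg (fun m => m.left) (lift_snd pr pl)).trans ?_
        exact ((Category.assoc _ _ _).trans ((congrArg ((pullbackSpecIso k A MP).inv ≫ ·)
          (pullbackSymmetry_hom_comp_snd _ _)).trans (pullbackSpecIso_inv_fst k A MP))).symm
    haveI : IsIso pm.left := by rw [he]; infer_instance
    haveI : IsIso ((Over.forget _).map pm) := ‹IsIso pm.left›
    exact isIso_of_reflects_iso _ (Over.forget _)
  haveI : IsIso pm.left := inferInstanceAs (IsIso ((Over.forget _).map pm))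
  have sq := Groth.L19.ClopenScheme.isPullback_whiskerLeft Y (act.orbitMap o)
  haveI : Flat (Y ◁ act.orbitMap o).left := MorphismProperty.of_isPullback (P := @Flat) sq.flip hQ.2.1
  haveI : Surjective (Y ◁ act.orbitMap o).left := MorphismProperty.of_isPullback (P := @Surjective) sq.flip hQ.2.2.1
  haveI : LocallyOfFinitePresentation (Y ◁ act.orbitMap o).left :=
    MorphismProperty.of_isPullback (P := @LocallyOfFinitePresentation) sq.flip ‹_›
  haveI : UniversallyOpen (Y ◁ act.orbitMap o).left := inferInstance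
  let f : SP k (A ⊗[k] MP) ⟶ Y ⊗ Q := pm ≫ (Y ◁ act.orbitMap o)
  haveI : Surjective f.left := inferInstanceAs (Surjective (pm.left ≫ (Y ◁ act.orbitMap o).left))
  have hfo : IsOpenMap f.left :=
    (Y ◁ act.orbitMap o).left.isOpenMap.comp pm.left.homeomorph.isOpenMap
  haveI : LocallyOfFiniteType (Y ⊗ Q).hom := Groth.L19.AlgGrpBasic.lft_tensor Y Q
  haveI : UniversallyClosed (fst Y Q).left :=
    MorphismProperty.pullback_fst (P := @UniversallyClosed) Y.hom Q.hom inferInstance
  have hfp : f ≫ fst Y Q = pr := by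
    simp only [f, pm, Category.assoc, whiskerLeft_fst, lift_fst]
  -- the closed set of pairs
  let XU : Matrix σ σ MP := ∑ j, (MvPolynomial.X j : MP) • (X j).map MvPolynomial.C
  let WR : Matrix σ σ (A ⊗[k] MP) :=
    (a.map fun r => incl (HopfAlgebra.antipode k r)) * XU.map incr * a.map incl
  let co : Module.Dual k (Matrix σ σ k) → A ⊗[k] MP := fun l => ∑ p, ∑ q, l (Matrix.single p q 1) • WR p q
  let E : Set (PrimeSpectrum (A ⊗[k] MP)) :=
    PrimeSpectrum.zeroLocus (co '' ((lieSub (k := k) (a.map φ)).dualAnnihilator : Set (Module.Dual k (Matrix σ σ k))))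
  have hval : ∀ x : A ⊗[k] MP →ₐ[k] k, WR.map x =
      ptMat a (toConv (x.comp incl))⁻¹.ofConv * (∑ j, x (incr (MvPolynomial.X j)) • X j) *
        ptMat a (toConv (x.comp incl)).ofConv := by
    intro x
    show ((a.map fun r => incl (HopfAlgebra.antipode k r)) * XU.map incr * a.map incl).map x = _
    rw [Matrix.map_mul, Matrix.map_mul]
    congr 2
    ext p q
    simp only [XU, Matrix.map_apply, Matrix.sum_apply, Matrix.smul_apply, smul_eq_mul, map_sum, map_mul]
    refine Finset.sum_congr rfl fun j _ => ?_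
    congr 1
    exact (x.comp incr).commutes _
  have hmem : ∀ x : A ⊗[k] MP →ₐ[k] k, ptOf (rpt x) ∈ E ↔ WR.map x ∈ lieSub (k := k) (a.map φ) := by
    intro x
    have hl : ∀ l : Module.Dual k (Matrix σ σ k), x (co l) = l (WR.map x) := by
      intro l
      conv_rhs => rw [Matrix.matrix_eq_sum_single (WR.map x)]
      simp only [co, map_sum, map_smul, smul_eq_mul]
      refine Finset.sum_congr rfl fun p _ => Finset.sum_congr rfl fun q _ => ?_
      rw [show Matrix.single p q ((WR.map x) p q) = x (WR p q) • Matrix.single p q (1 : k) by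
        rw [Matrix.smul_single, smul_eq_mul, _root_.mul_one]; rfl, map_smul, smul_eq_mul, mul_comm]
    rw [← Subspace.forall_mem_dualAnnihilator_apply_eq_zero_iff]
    show _ ⊆ ((ptOf (rpt x) : PrimeSpectrum (A ⊗[k] MP)).asIdeal : Set (A ⊗[k] MP)) ↔ _
    rw [Set.image_subset_iff]
    exact ⟨fun hx l hl' => by rw [← hl, ← mem_ptOf_rpt x]; exact hx hl',
      fun hx l hl' => (mem_ptOf_rpt x _).2 ((hl l).trans (hx l hl'))⟩
  have hC : IsClosed ((f ≫ fst Y Q).left '' E) := by
    refine isClosed_image_of_saturated f (fst Y Q) hfo (fst Y Q).left.isClosedMap (PrimeSpectrum.isClosed_zeroLocus _) ?_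
    intro e x he hex
    obtain ⟨χe, rfl⟩ := exists_rpt e
    obtain ⟨χx, rfl⟩ := exists_rpt x
    have e1 := congrArg (· ≫ fst Y Q) hex
    simp only [Category.assoc, hfp, pr, rpt_comp] at e1
    have hcoord : χe.comp incr = χx.comp incr := AlgHom.ext fun r => by
      have hh := congrArg (fun m : U1 ⟶ Y => e0 k ≫ m) e1
      simp only [rpt, IsIso.hom_inv_id_assoc] at hh
      exact congr($(CommRingCat.hom_ext_iff.1 (Spec.map_injective (congrArg (fun m => m.left) hh))) r)
    have e2 := congrArg (· ≫ snd Y Q) hex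
    simp only [f, pm, Category.assoc, whiskerLeft_snd, lift_snd_assoc] at e2
    rw [← Category.assoc, ← Category.assoc] at e2
    obtain ⟨z, hz⟩ := (Groth.L08.Borel.orbitMap_eq_iff hQ _ _).1 e2
    have hpl : ∀ χ : A ⊗[k] MP →ₐ[k] k, pt (rpt χ ≫ pl) = toConv (χ.comp incl) := fun χ => by
      rw [pt, rpt, Category.assoc, IsIso.hom_inv_id_assoc, ← toPt_post, ofPt_toPt]
      rfl
    have hz' : toConv (χx.comp incl) = toConv (χe.comp incl) * pre φ (pt z) := by
      rw [← pt_comp_sp, hz, pt_mul, pt_inv, hpl, hpl, mul_inv_cancel_left]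
    rw [hmem, hval] at he ⊢
    simp only [show ∀ j, χx (incr (MvPolynomial.X j)) = χe (incr (MvPolynomial.X j)) from
      fun j => (DFunLike.congr_fun hcoord _).symm]
    rw [show ptMat a (χx.comp incl) = ptMat a (toConv (χx.comp incl)).ofConv from rfl, hz', mul_inv_rev,
      ptMat_mul h, ptMat_mul h]
    have e3 := lieSub_conj (gens_map h φ hφ) (pt z)⁻¹ he
    rw [inv_inv] at e3
    have hpre : ∀ ψ : Pt k B k, ptMat (a.map φ) ψ.ofConv = ptMat a (pre φ ψ).ofConv := fun ψ => rfl
    rw [hpre, hpre, map_inv] at e3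
    convert e3 using 1
    simp only [← _root_.mul_assoc]
  have hall : (f ≫ fst Y Q).left '' E = Set.univ := by
    let U : TopologicalSpace.Opens (PrimeSpectrum MP) := PrimeSpectrum.basicOpen P₀
    have hne : (U : Set (PrimeSpectrum MP)).Nonempty := ⟨⟨⊥, Ideal.isPrime_bot⟩, fun hm => hP₀ (by simpa using hm)⟩
    have hsub : (U : Set (PrimeSpectrum MP)) ⊆ (f ≫ fst Y Q).left '' E := by
      intro y hy
      by_contra hy'
      obtain ⟨x, hxU, hxC⟩ := Groth.L08.Borel.exists_pt_mem (X := Y)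
        (O := (U : Set (PrimeSpectrum MP)) ∩ ((f ≫ fst Y Q).left '' E)ᶜ)
        (U.isOpen.inter hC.isOpen_compl).isLocallyClosed ⟨y, hy, hy'⟩
      obtain ⟨ψ, rfl⟩ := exists_rpt x
      have hψ : ψ = MvPolynomial.aeval fun j => ψ (MvPolynomial.X j) := MvPolynomial.algHom_ext fun j => (MvPolynomial.aeval_X (fun j => ψ (MvPolynomial.X j)) j).symm
      obtain ⟨χ, hχ⟩ := hopen (fun j => ψ (MvPolynomial.X j)) (by
        rw [← MvPolynomial.aeval_eq_eval, ← hψ]
        exact fun e => hxU ((mem_ptOf_rpt ψ P₀).2 e))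
      let x : A ⊗[k] MP →ₐ[k] k := Algebra.TensorProduct.lift χ.ofConv ψ fun _ _ => Commute.all _ _
      have hxl : x.comp incl = χ.ofConv := AlgHom.ext fun r => by simp [x, incl]
      have hxr : x.comp incr = ψ := AlgHom.ext fun r => by simp [x, incr]
      refine hxC ⟨ptOf (rpt x), (hmem x).2 ?_, ?_⟩
      · rw [hval, hxl]
        simpa only [show ∀ j, x (incr (MvPolynomial.X j)) = ψ (MvPolynomial.X j) from fun j => DFunLike.congr_fun hxr _]
          using hχ
      · show ptOf (rpt x ≫ f ≫ fst Y Q) = ptOf (rpt ψ)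
        rw [hfp, rpt_comp, hxr]
    refine Set.eq_univ_of_univ_subset ?_
    haveI : IrreducibleSpace (PrimeSpectrum MP) := inferInstance
    rw [← (U.isOpen.dense hne).closure_eq]
    exact closure_minimal hsub hC
  have hne : (E ∩ (f ≫ fst Y Q).left ⁻¹' {ptOf (rpt (MvPolynomial.aeval c : MP →ₐ[k] k))}).Nonempty := by
    obtain ⟨w, hw, hwe⟩ := hall.symm ▸ Set.mem_univ (ptOf (rpt (MvPolynomial.aeval c : MP →ₐ[k] k)))
    exact ⟨w, hw, hwe⟩
  obtain ⟨x, hxE, hxc⟩ := Groth.L08.Borel.exists_pt_mem (X := SP k (A ⊗[k] MP))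
    ((PrimeSpectrum.isClosed_zeroLocus _).inter ((Groth.L08.Borel.isClosed_pt _).preimage
      (f ≫ fst Y Q).left.continuous)).isLocallyClosed hne
  obtain ⟨χ, rfl⟩ := exists_rpt x
  refine ⟨toConv (χ.comp incl), ?_⟩
  have hcc : ∀ j, χ (incr (MvPolynomial.X j)) = c j := by
    have e1 : rpt χ ≫ f ≫ fst Y Q = rpt (MvPolynomial.aeval c : MP →ₐ[k] k) := Groth.L08.Borel.pt_ext hxc
    rw [hfp, rpt_comp] at e1
    intro j
    have hm := mem_ptOf_rpt (χ.comp incr) (MvPolynomial.X j - MvPolynomial.C (c j))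
    rw [e1, mem_ptOf_rpt] at hm
    have h0 := hm.1 ((map_sub _ _ _).trans (sub_eq_zero.2 ((MvPolynomial.aeval_X c j).trans (MvPolynomial.aeval_C c (c j)).symm)))
    rw [map_sub, sub_eq_zero] at h0
    exact h0.trans ((χ.comp incr).commutes _)
  have := (hmem χ).1 hxE
  rw [hval] at this
  simpa only [hcc] using this

end Groth.L20.LieBorel
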