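import Groth.Agent.L20.LieBorel.Closed
import Groth.Agent.L08.Borel.BorelPreimage
import Groth.Agent.L19.SpecSub.NormTorus

/-!
# The Lie algebra is the union of the Lie algebras of the Borel subgroups
-/

set_option autoImplicit false
set_option backward.isDefEq.respectTransparency false
set_option backward.isDefEq.respectTransparency.types false
set_option linter.style.haveILetI false
set_option linter.unusedSectionVars false

universe u

open CategoryTheory CategoryTheory.Limits MonoidalCategory CartesianMonoidalCategory MonObj AlgebraicGeometry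
open TensorProduct WithConv
open Groth.L25.Bridge (P)
open Groth.L08.TorusQuot (sp sp_left toPt toPt_pre toPt_post spA SP pre post Pt ofPt toPt_ofPt ofPt_toPt toPt_one)

noncomputable section

namespace Groth.L20.LieBorel

open Groth.L08 Groth.L08.AugGraded Groth.L24.TorusField Groth.L20.Unirat Groth.L20.Dense

variable {k : Type u} [Field k]

local notation "U1" => 𝟙_ (Over (Spec (CommRingCat.of k)))

variable (k) in
/-- the zero section of the dual numbers -/
def eps : SP k k ⟶ SP k (DualNumber k) := spA (TrivSqZeroExt.fstHom k k k)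

/-- a dual point lying in some Borel subgroup -/
def InBorel {G : Over (Spec (CommRingCat.of k))} [GrpObj G] (x : SP k (DualNumber k) ⟶ G) : Prop :=
  ∃ (B : Over (Spec (CommRingCat.of k))) (_ : GrpObj B) (b : B ⟶ G), Red.IsBorelOver k b ∧
    ∃ y : SP k (DualNumber k) ⟶ B, y ≫ b = x

/-- every tangent vector lies in a Borel subgroup -/
def LieCovered (G : Over (Spec (CommRingCat.of k))) [GrpObj G] : Prop :=
  ∀ x : SP k (DualNumber k) ⟶ G, eps k ≫ x = 1 → InBorel x

variable {A B : Type u} [CommRing A] [HopfAlgebra k A] [CommRing B] [HopfAlgebra k B]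

theorem eps_dualPt {w : A →ₗ[k] k} (hw : IsTangent k A w) : eps k ≫ toPt (toConv (dualPt hw)) = 1 :=
  fst_toPt_dualPt hw (eps k) rfl

/-- a dual point at the origin is a tangent vector -/
theorem exists_tangent (x : SP k (DualNumber k) ⟶ P k A) (hx : eps k ≫ x = 1) :
    ∃ (w : A →ₗ[k] k) (hw : IsTangent k A w), x = toPt (toConv (dualPt hw)) := by
  obtain ⟨χ, rfl⟩ : ∃ χ : Pt k A (DualNumber k), toPt χ = x := ⟨_, toPt_ofPt x⟩
  have hfst : ∀ p, (χ.ofConv p).fst = Coalgebra.counit (R := k) p := fun p => by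
    have e : post (TrivSqZeroExt.fstHom k k k) χ = 1 := by
      apply (Spec.mapMulEquiv (R := k) (S := A) (T := k)).injective
      rw [map_one]
      exact (toPt_post _ χ).trans hx
    refine (congrArg (fun q : Pt k A k => q.ofConv p) e).trans ?_
    show (1 : Pt k A k) p = _
    rw [AlgHom.convOne_apply]
    rfl
  have hw : IsTangent k A ((TrivSqZeroExt.sndHom k k).comp χ.ofConv.toLinearMap) := fun p q => by
    show (χ.ofConv (p * q)).snd = _
    rw [map_mul, DualNumber.snd_mul, hfst, hfst]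
    show _ = Coalgebra.counit (R := k) p * (χ.ofConv q).snd + Coalgebra.counit (R := k) q * (χ.ofConv p).snd
    ring
  refine ⟨_, hw, congrArg toPt (WithConv.ofConv_injective (AlgHom.ext fun p => TrivSqZeroExt.ext ?_ ?_))⟩
  · rw [hfst]; exact (fst_dualPt hw p).symm
  · exact (snd_dualPt hw p).symm

variable {σ : Type u} [Fintype σ] [DecidableEq σ] {a : Matrix σ σ A}

/-- conjugating a dual point -/
theorem conj_dualPt (h : Gens k a) (g : U1 ⟶ P k A) {w : A →ₗ[k] k} (hw : IsTangent k A w) :
    ∃ (w' : A →ₗ[k] k) (hw' : IsTangent k A w'),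
      (toUnit _ ≫ g) * toPt (toConv (dualPt hw)) * (toUnit _ ≫ g)⁻¹ = toPt (toConv (dualPt hw')) ∧
      mat a w' = ptMat a (pt g).ofConv * mat a w * ptMat a (pt g)⁻¹.ofConv := by
  have hg : toUnit (SP k (DualNumber k)) ≫ g = toPt (inlPt (pt g)) := by
    have e : toPt (inlPt (pt g)) = spA (IsScalarTower.toAlgHom k k (DualNumber k)) ≫ toPt (pt g) :=
      toPt_post _ (pt g)
    rw [e, pt, toPt_ofPt, ← Category.assoc]
    congr 1
  have hinv : inlPt (pt g)⁻¹ = (inlPt (pt g))⁻¹ :=
    map_inv (post (A := A) (IsScalarTower.toAlgHom k k (DualNumber k))) (pt g)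
  obtain ⟨hf, hs⟩ := conj_pt (K := k) h (mul_inv_cancel (pt g)) (toConv (dualPt hw)) fun p => by
    simpa using fst_dualPt hw p
  obtain ⟨χ, hχ⟩ : ∃ χ, χ = inlPt (pt g) * toConv (dualPt hw) * inlPt (pt g)⁻¹ := ⟨_, rfl⟩
  rw [← hχ] at hf hs
  have hw' : IsTangent k A (sndPart χ.ofConv) := fun p q => by simpa using isKTangent_sndPart _ hf p q
  refine ⟨_, hw', ?_, hs.trans ?_⟩
  · rw [hg, ← map_inv, ← map_mul, ← map_mul, ← hinv, ← hχ]
    refine congrArg toPt (WithConv.ofConv_injective (AlgHom.ext fun p => TrivSqZeroExt.ext ?_ ?_))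
    · exact ((hf p).trans (by simp)).trans (fst_dualPt hw' p).symm
    · exact (snd_dualPt hw' p).symm
  · congr 2
    ext i j
    exact snd_dualPt hw _

/-- tangent vectors of a closed subgroup -/
theorem mem_lie_iff_fac (h : Gens k a) (φ : A →ₐc[k] B) (hφ : Function.Surjective φ) {w : A →ₗ[k] k}
    (hw : IsTangent k A w) :
    mat a w ∈ lieSub (k := k) (a.map φ) ↔
      ∃ y : SP k (DualNumber k) ⟶ P k B, y ≫ sp φ = toPt (toConv (dualPt hw)) := by
  constructor
  · rintro ⟨w', hw', e⟩
    refine ⟨toPt (toConv (dualPt hw')), ?_⟩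
    rw [← toPt_pre]
    refine congrArg toPt (WithConv.ofConv_injective (algHom_ext_gens h fun i j => ?_))
    show dualPt hw' (φ (a i j)) = dualPt hw (a i j)
    refine TrivSqZeroExt.ext ?_ ?_
    · rw [fst_dualPt, fst_dualPt, CoalgHomClass.counit_comp_apply]
    · rw [snd_dualPt, snd_dualPt]
      exact congrFun (congrFun e i) j
  · rintro ⟨y, hy⟩
    have e : pre φ (ofPt y) = toConv (dualPt hw) := by
      apply (Spec.mapMulEquiv (R := k) (S := A) (T := DualNumber k)).injective
      show toPt _ = toPt _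
      rw [toPt_pre, toPt_ofPt, hy]
    have he : ∀ p, (ofPt y).ofConv (φ p) = dualPt hw p := fun p =>
      congrArg (fun q : Pt k A (DualNumber k) => q.ofConv p) e
    have hy1 : eps k ≫ y = 1 := by
      haveI : IsClosedImmersion (sp φ).left := by
        rw [sp_left]; exact IsClosedImmersion.spec_of_surjective _ hφ
      haveI : Mono (sp φ) := Over.mono_of_mono_left _
      rw [← cancel_mono (sp φ), Category.assoc, hy, eps_dualPt hw, ← toPt_one (A := B), ← toPt_pre, map_one, toPt_one]
    obtain ⟨w', hw', hyw⟩ := exists_tangent y hy1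
    refine ⟨w', hw', ?_⟩
    ext i j
    show w' (φ (a i j)) = w (a i j)
    rw [← snd_dualPt hw', ← snd_dualPt hw, ← he, hyw, ofPt_toPt]

variable [IsAlgClosed k]

/-- solvable groups are their own Borel subgroups -/
theorem covered_of_solvable {G : Over (Spec (CommRingCat.of k))} [GrpObj G] [Smooth G.hom] [ConnectedSpace G.left]
    (hG : Red.IsSolvableGrp G) : LieCovered G := fun x _ => by
  refine ⟨G, inferInstance, 𝟙 G, ⟨inferInstance, inferInstanceAs (IsClosedImmersion (𝟙 G.left)), inferInstance,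
    inferInstance, hG, fun B' _ b' _ f hc _ _ _ hf => ?_⟩, x, Category.comp_id x⟩
  haveI := hc
  haveI : Mono b' := Over.mono_of_mono_left b'
  exact ⟨b', hf, by rw [← cancel_mono b', Category.assoc, hf, Category.id_comp, Category.comp_id]⟩

variable [Algebra.FiniteType k A] [Smooth (P k A).hom] [ConnectedSpace (P k A).left]

/-- **the group without central subgroups of multiplicative type** -/
theorem covered_core (hQ : NoCentralMult (P k A))
    (ih : ∀ (C : Over (Spec (CommRingCat.of k))) [GrpObj C] [IsAffine C.left] [Smooth C.hom] [ConnectedSpace C.left],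
      topologicalKrullDim C.left < topologicalKrullDim (P k A).left → LieCovered C) : LieCovered (P k A) := by
  classical
  haveI : IsAffineHom (P k A).hom := inferInstance
  by_cases hall : ∀ s : A →ₗ[k] k, IsTangent k A s → IsDiagTangent s → Cent s
  · -- a unipotent group
    obtain ⟨T₀, gT₀, i₀, h₀⟩ := exists_maximalTorus_connected (P k A)
    have hi : i₀ = 1 := maxTorus_eq_one hQ hall h₀
    have hcent : Red.IsCentralizerOf i₀ (𝟙 (P k A)) :=
      ⟨inferInstance, inferInstance, fun X g => ⟨fun _ X' x t => by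
        rw [hi, MonObj.comp_one, _root_.mul_one, _root_.one_mul], fun _ => ⟨g, Category.comp_id g⟩⟩⟩
    exact covered_of_solvable (Groth.L08.Borel.isSolvableGrp_centralizer
      (isMaxTorus_of_isMaximalTorus_field h₀) hcent)
  push Not at hall
  obtain ⟨s, hs, hd, hnc⟩ := hall
  obtain ⟨d⟩ := exists_genData (k := k) (A := A)
  have hb := d.gens
  haveI : IsDomain A := Groth.L24.TorusField.isDomain_of_smooth_connected (k := k) (A := A)
  haveI : IsNoetherianRing A := Algebra.FiniteType.isNoetherianRing k A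
  have hD : DiagM (mat d.a s) := by
    let L := AlgebraicClosure k
    have hbij : Function.Bijective (algebraMap k L) :=
      IsAlgClosed.algebraMap_bijective_of_isIntegral (k := k) (K := L)
    have := (diagM_of_isDiagTangent hb hd).map (RingEquiv.ofBijective (algebraMap k L) hbij).symm.toRingHom
    convert this using 1
    ext i j
    exact (((RingEquiv.ofBijective (algebraMap k L) hbij)).symm_apply_apply _).symm
  obtain ⟨Z, gZ, z, C, gC, j, hzm, hzmono, hzc, hj, hCa, hCs, hCc, hlt, -, hlift, -⟩ := exists_centraliser hs hd hnc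
  haveI := hzm; haveI := hzmono; haveI := hzc; haveI := hCa; haveI := hCs; haveI := hCc
  haveI := hj.hom; haveI := hj.closedImm; haveI := hj.openImm
  -- a Borel subgroup
  obtain ⟨B₀, gB₀, b₀, hB₀⟩ := Groth.L08.Borel.exists_borel (P k A)
  haveI := hB₀.1; haveI := hB₀.2.1; haveI := hB₀.2.2.1; haveI := hB₀.2.2.2.1
  haveI : IsAffine B₀.left := isAffine_of_isAffineHom b₀.left
  obtain ⟨B', _, _, e, he, he', _, _, _⟩ := exists_hopfData B₀
  haveI := he; haveI := he'
  obtain ⟨φ, hφe⟩ := Groth.L08.TorusQuot.exists_sp (e.inv ≫ b₀)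
  haveI : IsClosedImmersion (sp φ).left := by
    rw [hφe, Over.comp_left]
    haveI : IsIso e.inv.left := inferInstanceAs (IsIso ((Over.forget _).map e.inv))
    infer_instance
  have hφ : Function.Surjective φ := surjective_of_closedImmersion φ
  have hB : Red.IsBorelOver k (sp φ) :=
    Groth.L08.Borel.isBorelOver_iso_comp hB₀ e.symm (sp φ) (by rw [hφe]; rfl)
  haveI := hB.1
  haveI : LocallyOfFiniteType (P k A).hom := inferInstance
  -- generic elements are conjugate into its Lie algebra
  let n := Module.finrank k (lieSub (k := k) d.a)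
  let X : Fin n → Matrix d.ι d.ι k := fun i => (Module.finBasis k (lieSub (k := k) d.a) i : lieSub (k := k) d.a)
  have hXs : ∀ M ∈ lieSub (k := k) d.a, ∃ c : Fin n → k, ∑ i, c i • X i = M := fun M hM => by
    refine ⟨(Module.finBasis k (lieSub (k := k) d.a)).equivFun ⟨M, hM⟩, ?_⟩
    have := congrArg Subtype.val ((Module.finBasis k (lieSub (k := k) d.a)).sum_equivFun ⟨M, hM⟩)
    simpa only [AddSubmonoidClass.coe_finsetSum, SetLike.val_smul] using this
  obtain ⟨P₀, hP₀, hP⟩ := exists_open_conj hb (S0 := mat d.a s) ⟨s, hs, rfl⟩ hD (one_ne_zero (α := A)) X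
    ((Module.finBasis k (lieSub (k := k) d.a)).linearIndependent.map' (lieSub (k := k) d.a).subtype
      (Submodule.ker_subtype _)) (fun i => (Module.finBasis k (lieSub (k := k) d.a) i).2) hXs
  have hopen : ∀ c, MvPolynomial.eval c P₀ ≠ 0 → ∃ χ : WithConv (A →ₐ[k] k),
      ptMat d.a χ⁻¹.ofConv * (∑ i, c i • X i) * ptMat d.a χ.ofConv ∈ lieSub (k := k) (d.a.map φ) := by
    intro c hc
    obtain ⟨χ, -, W, hW, hW0, -, hsum⟩ := hP c hc
    obtain ⟨w, hw, rfl⟩ := mem_lieSub.1 hW
    obtain ⟨y, hy⟩ := hlift (DualNumber k) (dualPt hw)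
      (commD_dualPt hw (conv_commute hb hw hs (commute_of_adE hW0).symm))
    obtain ⟨y', hy'⟩ := exists_lift_dual z j y (by rw [hy]; exact fst_toPt_dualPt hw _ rfl)
    haveI : Mono j := Over.mono_of_mono_left j
    haveI : Mono (j ≫ z) := mono_comp _ _
    have hy0 : eps k ≫ y' = 1 := by
      rw [← cancel_mono (j ≫ z), Category.assoc, reassoc_of% hy', hy, eps_dualPt hw, MonObj.one_comp]
    obtain ⟨BC, gBC, bC, hBC, v, hv⟩ := ih C hlt y' hy0
    haveI := hBC.1; haveI := hBC.2.1; haveI := hBC.2.2.1; haveI := hBC.2.2.2.1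
    haveI : IsClosedImmersion (bC ≫ j ≫ z).left :=
      inferInstanceAs (IsClosedImmersion (bC.left ≫ j.left ≫ z.left))
    obtain ⟨B₁, gB₁, b₁, hB₁, f, hf⟩ := Groth.L08.Borel.exists_borel_ge (bC ≫ j ≫ z) hBC.2.2.2.2.1
    obtain ⟨g, ψ, hψ⟩ := Groth.L08.Borel.exists_borel_conj hB₁ hB
    obtain ⟨w', hw', hconj, hmat⟩ := conj_dualPt hb g hw
    have hx : (v ≫ f ≫ ψ.hom) ≫ sp φ = toPt (toConv (dualPt hw')) := by
      rw [Category.assoc, Category.assoc, hψ, Groth.L08.Borel.comp_conjBy, hf, Groth.L08.Borel.comp_conjBy,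
        reassoc_of% hv, reassoc_of% hy', hy]
      exact hconj
    have hmem := (mem_lie_iff_fac hb φ hφ hw').2 ⟨_, hx⟩
    rw [hmat] at hmem
    refine ⟨χ * (pt g)⁻¹, ?_⟩
    obtain ⟨h1, h2⟩ := ptMat_mul_inv hb χ
    rw [hsum, mul_inv_rev, inv_inv, ptMat_mul hb, ptMat_mul hb]
    convert hmem using 1
    simp only [← _root_.mul_assoc]
    rw [_root_.mul_assoc _ (ptMat d.a χ⁻¹.ofConv) (ptMat d.a χ.ofConv), h2, _root_.mul_one,
      _root_.mul_assoc _ (ptMat d.a χ⁻¹.ofConv) (ptMat d.a χ.ofConv), h2, _root_.mul_one]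
  intro x hx
  obtain ⟨w, hw, rfl⟩ := exists_tangent x hx
  obtain ⟨c, hc⟩ := hXs (mat d.a w) ⟨w, hw, rfl⟩
  obtain ⟨χ, hχ⟩ := exists_conj_of_open hb φ hφ hB X hP₀ hopen c
  rw [hc] at hχ
  obtain ⟨g, hg⟩ := pt_surjective χ
  obtain ⟨w', hw', hconj, hmat⟩ := conj_dualPt hb g⁻¹ hw
  rw [pt_inv, hg, inv_inv] at hmat
  rw [← hmat] at hχ
  obtain ⟨y, hy⟩ := (mem_lie_iff_fac hb φ hφ hw').1 hχ
  refine ⟨_, inferInstance, AGF.conjBy g (sp φ), Groth.L08.Borel.isBorelOver_conjBy hB g, y, ?_⟩
  rw [Groth.L08.Borel.comp_conjBy, hy, ← hconj, AGF.conjBy, GrpObj.comp_inv]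
  group

end Groth.L20.LieBorel
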