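import Groth.Agent.L20.LieBorel.Core
import Groth.Agent.L20.Dense.Main
import Groth.Agent.L24.TorusField.NonAffine
import Groth.Agent.L08.Borel.PreimageField

/-!
# The Lie algebra of a smooth group is covered by its Borel subgroups
-/

set_option autoImplicit false
set_option backward.isDefEq.respectTransparency false
set_option backward.isDefEq.respectTransparency.types false
set_option linter.style.haveILetI false
set_option linter.unusedSectionVars false

universe u

open CategoryTheory CategoryTheory.Limits MonoidalCategory CartesianMonoidalCategory MonObj AlgebraicGeometry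
open Groth.L25.Bridge (P)
open Groth.L08.TorusQuot (sp SP spA)
open Groth.L08.AffHull (hull rho)

noncomputable section

namespace Groth.L20.LieBorel

open Groth.L08 Groth.L08.AugGraded Groth.L24.TorusField Groth.L20.Unirat Groth.L20.Dense

variable {k : Type u} [Field k] [IsAlgClosed k]

/-- tangent vectors lift along a central isogeny or quotient, with their Borel subgroups -/
theorem covered_of_central {G Q : Over (Spec (CommRingCat.of k))} [GrpObj G] [GrpObj Q] [Smooth G.hom]
    [QuasiCompact G.hom] [ConnectedSpace G.left] [Smooth Q.hom] [QuasiCompact Q.hom] [ConnectedSpace Q.left]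
    (u : G ⟶ Q) [IsMonHom u] [Surjective u.left]
    (hker : ∀ (X : Over (Spec (CommRingCat.of k))) (z : X ⟶ G), z ≫ u = 1 →
      ∀ (X' : Over (Spec (CommRingCat.of k))) (x : X' ⟶ X) (g : X' ⟶ G), (x ≫ z) * g = g * (x ≫ z))
    (h : LieCovered Q) : LieCovered G := fun x hx => by
  obtain ⟨B', _, b', hB', y, hy⟩ := h (x ≫ u) (by rw [← Category.assoc, hx, MonObj.one_comp])
  obtain ⟨B, gB, b, p, hB, -, -, -, sq⟩ := Groth.L08.Borel.exists_preimage_borel_ker u
    (fun B _ b hB => Groth.L08.Borel.kerLe_of_central u hker B b hB) hB'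
  exact ⟨B, gB, b, hB, sq.lift x y hy.symm, sq.lift_fst _ _ _⟩

/-- **affine connected groups** -/
theorem covered_affine : ∀ (n : ℕ) (G : Over (Spec (CommRingCat.of k))) [GrpObj G] [IsAffine G.left] [Smooth G.hom]
    [ConnectedSpace G.left], topologicalKrullDim G.left ≤ (n : WithBot ℕ∞) → LieCovered G := by
  intro n
  induction n using Nat.strong_induction_on with
  | _ n ih =>
  intro G _ _ _ _ hn
  haveI : IsAffineHom G.hom := inferInstance
  obtain ⟨Q, gQ, q, hqm, hQa, hQs, hQc, hqs, hdim, hkc, hQ⟩ := exists_central_quotient G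
  haveI := hqm; haveI := hQa; haveI := hQs; haveI := hQc; haveI := hqs
  obtain ⟨A', _, _, e, he, he', _, _, _⟩ := exists_hopfData Q
  haveI := he; haveI := he'
  haveI : IsIso e.hom.left := inferInstanceAs (IsIso ((Over.forget _).map e.hom))
  haveI : Surjective (q ≫ e.hom).left := by rw [Over.comp_left]; infer_instance
  haveI : IsAffineHom (P k A').hom := inferInstance
  have hdimA : topologicalKrullDim (P k A').left ≤ (n : WithBot ℕ∞) := by
    rw [← e.hom.left.homeomorph.isHomeomorph.topologicalKrullDim_eq]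
    exact hdim.trans hn
  refine covered_of_central (q ≫ e.hom)
    (fun X z hz => hkc X z (by rw [← cancel_mono e.hom, Category.assoc, hz, MonObj.one_comp]))
    (covered_core (NoCentralMult.of_iso hQ e) fun C _ _ _ _ hlt => ?_)
  haveI : IsAffineHom C.hom := inferInstance
  obtain ⟨m, -, hm⟩ := Groth.L08.GrpDim.exists_dim (G := C)
  have hmn : m < n := by
    have h1 : (m : WithBot ℕ∞) < (n : WithBot ℕ∞) := hm ▸ lt_of_lt_of_le hlt hdimA
    exact_mod_cast h1
  exact ih m hmn C hm.le

/-- **connected groups** -/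
theorem covered_connected (G : Over (Spec (CommRingCat.of k))) [GrpObj G] [Smooth G.hom] [QuasiCompact G.hom]
    [ConnectedSpace G.left] : LieCovered G := by
  haveI : LocallyOfFiniteType G.hom := inferInstance
  haveI := Groth.Agent.AV.isSeparated_of_grpObj G
  haveI := Groth.L08.AffHull.compactSpace (G := G)
  haveI := Groth.L08.AffHull.quasiSeparatedSpace (G := G)
  obtain ⟨hl, hs, hf, hp⟩ := Groth.L08.AffHull.hull_props (G := G)
  haveI := hl; haveI := hs; haveI := hf; haveI := hp
  haveI : IsAffine (hull G).left := inferInstanceAs (IsAffine (Spec Γ(G.left, ⊤)))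
  haveI : LocallyOfFinitePresentation (hull G).hom := inferInstance
  haveI : IsAffineHom (hull G).hom := inferInstance
  haveI : Smooth (hull G).hom :=
    Groth.L23.FppfSmooth.smooth_of_fppf_comp (rho G).left (hull G).hom (by rw [Over.w (rho G)]; infer_instance)
  haveI : ConnectedSpace (hull G).left := (rho G).left.surjective.connectedSpace (rho G).left.continuous
  haveI : QuasiCompact (hull G).hom := inferInstance
  obtain ⟨M, gM, j, hjm, hjc, -, hker⟩ := Groth.L08.AbelianGrp.exists_kernel (rho G)
  haveI := hjm; haveI := hjc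
  haveI : LocallyOfFiniteType M.hom := by rw [← Over.w j]; infer_instance
  haveI : QuasiCompact M.hom := by rw [← Over.w j]; infer_instance
  haveI : IsIso M.hom.appTop := Groth.L08.AffHull.isIso_appTop_kernel j hker
  obtain ⟨n, -, hn⟩ := Groth.L08.GrpDim.exists_dim (G := hull G)
  refine covered_of_central (rho G) (fun X z hz X' x g => ?_) (covered_affine n (hull G) hn.le)
  obtain ⟨l, rfl, -⟩ := hker.exists_lift z (toUnit X) (by rw [hz, Hom.one_def])
  rw [← Category.assoc]
  exact Groth.L24.TorusField.central_of_antiAffine j (x ≫ l) g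

/-- Borel subgroups of the identity component are Borel subgroups -/
theorem isBorelOver_comp_idComp {G C B : Over (Spec (CommRingCat.of k))} [GrpObj G] [GrpObj C] [GrpObj B]
    {j : C ⟶ G} (hj : Groth.L08.Chev.IdCompData j) {b : B ⟶ C} (hB : Red.IsBorelOver k b) :
    Red.IsBorelOver k (b ≫ j) := by
  haveI := hj.hom; haveI := hj.closedImm; haveI := hB.1; haveI := hB.2.1
  haveI : Mono j := Groth.L08.mono_of_closedImmersion j
  refine ⟨inferInstance, by rw [Over.comp_left]; infer_instance, hB.2.2.1, hB.2.2.2.1, hB.2.2.2.2.1,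
    fun B' _ i' _ f hc hs hcon hsol hf => ?_⟩
  haveI := hcon
  obtain ⟨z, hz⟩ := hj.exists_lift_hom i'
  haveI : IsMonHom z := Groth.L08.Borel.isMonHom_of_comp_mono z j i' hz
  have hzc : IsClosedImmersion z.left := by
    haveI : IsClosedImmersion (z.left ≫ j.left) := by rw [← Over.comp_left, hz]; exact hc
    exact IsClosedImmersion.of_comp z.left j.left
  exact hB.2.2.2.2.2 B' z f hzc hs hcon hsol (by rw [← cancel_mono j, Category.assoc, hz, hf])

/-- the zero section, in two guises -/
theorem eps_dptIso : eps k ≫ (LieS.dptIso k).inv = (Over.homMk (𝟙 _) (Category.id_comp _) :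
    SP k k ⟶ LieS.pt k (Spec.map (CommRingCat.ofHom (algebraMap k k)))) ≫
      LieS.zeroSec k (Spec.map (CommRingCat.ofHom (algebraMap k k))) := by
  refine Over.OverMorphism.ext ?_
  rw [Over.comp_left, Over.comp_left]
  show Spec.map (CommRingCat.ofHom (TrivSqZeroExt.fstHom k k k).toRingHom) ≫
    (Iso.refl (Spec (CommRingCat.of (DualNumber k)))).inv = 𝟙 (Spec (CommRingCat.of k)) ≫ Spec.map (CommRingCat.ofHom (TrivSqZeroExt.fstHom k k k).toRingHom)
  rw [Iso.refl_inv, Category.comp_id, Category.id_comp]

/-- **every tangent vector lies in the Lie algebra of a Borel subgroup** -/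
theorem exists_borel_lie (G : Over (Spec (CommRingCat.of k))) [GrpObj G] [Smooth G.hom] [QuasiCompact G.hom]
    (v : ↥(LieS.LieR G k)) :
    ∃ (B : Over (Spec (CommRingCat.of k))) (_ : GrpObj B) (i : B ⟶ G) (_ : IsMonHom i),
      Red.IsBorelOver k i ∧ ∃ w : ↥(LieS.LieR B k),
        LieS.map k (Spec.map (CommRingCat.ofHom (algebraMap k k))) i w = v := by
  haveI : LocallyOfFiniteType G.hom := inferInstance
  obtain ⟨x, hx⟩ : ∃ x : SP k (DualNumber k) ⟶ G, x = (LieS.dptIso k).inv ≫ v.1 := ⟨_, rfl⟩
  have hv : LieS.zeroSec k (Spec.map (CommRingCat.ofHom (algebraMap k k))) ≫ v.1 = 1 := v.2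
  have hx0 : eps k ≫ x = 1 := by
    rw [hx, ← Category.assoc, eps_dptIso, Category.assoc, hv, MonObj.comp_one]
  obtain ⟨C, gC, j, hj⟩ := Groth.L08.Chev.exists_idComp G
  haveI := hj.hom; haveI := hj.openImm; haveI := hj.closedImm
  haveI := hj.connectedSpace; haveI := hj.smooth; haveI := hj.quasiCompact
  obtain ⟨x', hx'⟩ := exists_lift_dual (𝟙 G) j x ((congrArg (eps k ≫ ·) (Category.comp_id x)).trans hx0)
  haveI : Mono j := Groth.L08.mono_of_closedImmersion j
  obtain ⟨B, gB, b, hB, y, hy⟩ := covered_connected C x'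
    (by rw [← cancel_mono j, Category.assoc, hx', hx0, MonObj.one_comp])
  haveI := hB.1; haveI := hB.2.1
  haveI : IsMonHom (b ≫ j) := inferInstance
  haveI : Mono b := Groth.L08.mono_of_closedImmersion b
  haveI : Mono (b ≫ j) := mono_comp _ _
  have hwv : ((LieS.dptIso k).hom ≫ y) ≫ b ≫ j = v.1 := by
    rw [Category.assoc, reassoc_of% hy, hx', hx, Iso.hom_inv_id_assoc]
  have hw : (LieS.dptIso k).hom ≫ y ∈ LieS.LieR B k := by
    rw [LieS.mem_Lie_iff, ← cancel_mono (b ≫ j), Category.assoc, hwv, hv, MonObj.one_comp]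
  refine ⟨B, gB, b ≫ j, ‹IsMonHom (b ≫ j)›, isBorelOver_comp_idComp hj hB, ⟨_, hw⟩, ?_⟩
  apply Subtype.ext
  rw [← hwv]
  simp only [LieS.map, MonoidHom.codRestrict_apply, MonoidHom.coe_comp, Subgroup.coe_subtype, Function.comp_apply]
  rfl

end Groth.L20.LieBorel
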